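import Cfsg.Agent.Lib.J1.Basic
import Mathlib.GroupTheory.Sylow
import Mathlib.GroupTheory.GroupAction.ConjAct
import Mathlib.GroupTheory.Subgroup.Simple
import Mathlib.GroupTheory.GroupAction.Quotient
import Mathlib.GroupTheory.SpecificGroups.Cyclic

/-! The simplicity of J₁. -/

namespace Cfsg.Agent.J1

open Cfsg.Spor Cfsg.Agent.J1Cert

/-- The generator of order 7. -/
def X' : J1 := ⟨jankoX, X_mem⟩

/-- The generator of order 5. -/
def Y' : J1 := ⟨jankoY, Y_mem⟩

theorem closure_gens : Subgroup.closure ({X', Y'} : Set J1) = ⊤ := by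
  apply Subgroup.map_injective J1.subtype_injective
  rw [MonoidHom.map_closure, ← MonoidHom.range_eq_map, Subgroup.range_subtype]
  show Subgroup.closure (Subtype.val '' ({X', Y'} : Set J1)) = J1
  rw [Set.image_pair]
  rfl

theorem code_X' : code (X' : GL (Fin 7) (ZMod 11)) = xCode := code_X

theorem X'_pow : X' ^ 7 = 1 := by
  refine Subtype.ext (code_injective ?_)
  rw [SubgroupClass.coe_pow, code_pow, code_X', OneMemClass.coe_one, code_one]
  decide +kernel

theorem Y'_pow : Y' ^ 5 = 1 := by
  refine Subtype.ext (code_injective ?_)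
  rw [SubgroupClass.coe_pow, code_pow, show code (Y' : GL (Fin 7) (ZMod 11)) = yCode from code_Y,
    OneMemClass.coe_one, code_one]
  decide +kernel

theorem orderOf_X' : orderOf X' = 7 := by
  have : Fact (Nat.Prime 7) := ⟨by norm_num⟩
  refine orderOf_eq_prime X'_pow fun e => ?_
  have : xCode = idCode := by rw [← code_X', e]; exact code_one
  exact absurd this (by decide +kernel)

/-- An element commuting with an element of order 7, 11 or 19 is a power of it. -/
theorem commute_orderOf_dvd {q : ℕ} (hq : q = 7 ∨ q = 11 ∨ q = 19) {x g : J1} (hx : orderOf x = q)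
    (hc : Commute g x) : orderOf g ∣ q := by
  have hqp : q.Prime := by rcases hq with rfl | rfl | rfl <;> norm_num
  obtain ⟨k, hk, hgk⟩ := orderOf_dvd_exps g
  by_cases hd : q ∣ orderOf g
  · have : k = q := by
      have h1 := hd.trans hgk
      have h2 : ∀ q ∈ [7, 11, 19], ∀ k ∈ exps, k % q = 0 → k = q := by decide
      exact h2 q (by simpa using hq) k hk (Nat.mod_eq_zero_of_dvd h1)
    exact this ▸ hgk
  · have hcop : Nat.Coprime (orderOf g) (orderOf x) := by
      rw [hx, Nat.coprime_comm]; exact hqp.coprime_iff_not_dvd.mpr hd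
    obtain ⟨l, hl, hgl⟩ := orderOf_dvd_exps (g * x)
    rw [hc.orderOf_mul_eq_mul_orderOf_of_coprime hcop, hx] at hgl
    have : l = q := by
      have h1 := (Dvd.intro_left _ rfl).trans hgl
      have h2 : ∀ q ∈ [7, 11, 19], ∀ k ∈ exps, k % q = 0 → k = q := by decide
      exact h2 q (by simpa using hq) l hl (Nat.mod_eq_zero_of_dvd h1)
    exact this ▸ (Dvd.intro _ rfl).trans hgl

/-- The centraliser of an element of order 7, 11 or 19 is the group it generates. -/
theorem centralizer_eq {q : ℕ} (hq : q = 7 ∨ q = 11 ∨ q = 19) {x : J1} (hx : orderOf x = q) :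
    Subgroup.centralizer {x} = Subgroup.zpowers x := by
  have hqp : q.Prime := by rcases hq with rfl | rfl | rfl <;> norm_num
  have : Fact q.Prime := ⟨hqp⟩
  refine le_antisymm (fun g hg => ?_) (Subgroup.zpowers_le.mpr (Subgroup.mem_centralizer_singleton_iff.mpr rfl))
  have hP : IsPGroup q (Subgroup.centralizer {x}) := by
    intro y
    have := commute_orderOf_dvd hq hx (g := (y : J1)) (Subgroup.mem_centralizer_singleton_iff.mp y.2)
    refine ⟨1, Subtype.ext ?_⟩
    rw [pow_one, SubgroupClass.coe_pow, OneMemClass.coe_one]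
    exact orderOf_dvd_iff_pow_eq_one.mp this
  obtain ⟨n, hn⟩ := IsPGroup.iff_card.mp hP
  have hd := Subgroup.card_subgroup_dvd_card (Subgroup.centralizer {x})
  rw [hn, card_J1] at hd
  have hn1 : n ≤ 1 := by
    by_contra h
    have := (pow_dvd_pow q (show 2 ≤ n by omega)).trans hd
    rcases hq with rfl | rfl | rfl <;> norm_num at this
  have hle : Subgroup.zpowers x ≤ Subgroup.centralizer {x} :=
    Subgroup.zpowers_le.mpr (Subgroup.mem_centralizer_singleton_iff.mpr rfl)
  have heq := Subgroup.eq_of_le_of_card_ge hle (by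
    rw [hn, Nat.card_zpowers, hx]
    calc q ^ n ≤ q ^ 1 := Nat.pow_le_pow_right hqp.pos hn1
      _ = q := pow_one q)
  rw [heq]
  exact hg

theorem card_conj_class {q : ℕ} (hq : q = 7 ∨ q = 11 ∨ q = 19) {x : J1} (hx : orderOf x = q) :
    Nat.card (MulAction.orbit (ConjAct J1) x) * q = 175560 := by
  rw [← card_J1, Nat.card_congr (MulAction.orbitEquivQuotientStabilizer (ConjAct J1) x)]
  have h : Nat.card (MulAction.stabilizer (ConjAct J1) x) = q := by
    rw [ConjAct.stabilizer_eq_centralizer]
    rw [show Nat.card (Subgroup.centralizer ({ConjAct.toConjAct x} : Set (ConjAct J1))) =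
      Nat.card (Subgroup.centralizer ({x} : Set J1)) from rfl, centralizer_eq hq hx, Nat.card_zpowers, hx]
  calc Nat.card (ConjAct J1 ⧸ MulAction.stabilizer (ConjAct J1) x) * q
      = (MulAction.stabilizer (ConjAct J1) x).index * Nat.card (MulAction.stabilizer (ConjAct J1) x) := by
        rw [h]; rfl
    _ = Nat.card J1 := Subgroup.index_mul_card _

theorem normal_card_cond (N : Subgroup J1) [N.Normal] {q : ℕ} (hq : q = 7 ∨ q = 11 ∨ q = 19) :
    (Nat.card N % q = 0 ∧ 175560 ≤ Nat.card N * q) ∨ Nat.card N % q = 1 := by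
  have hqp : q.Prime := by rcases hq with rfl | rfl | rfl <;> norm_num
  have : Fact q.Prime := ⟨hqp⟩
  by_cases hd : q ∣ Nat.card N
  · left
    refine ⟨Nat.mod_eq_zero_of_dvd hd, ?_⟩
    obtain ⟨x, hx⟩ := exists_prime_orderOf_dvd_card' q hd
    rw [← Subgroup.orderOf_coe] at hx
    rw [← card_conj_class hq hx]
    refine Nat.mul_le_mul_right q ?_
    refine Nat.card_mono (Set.toFinite (N : Set J1)) ?_
    rintro _ ⟨g, rfl⟩
    simp only [ConjAct.smul_def]
    exact ‹N.Normal›.conj_mem _ x.2 _
  · right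
    obtain ⟨x, hx⟩ := exists_orderOf ⟨q, by rcases hq with rfl | rfl | rfl <;> decide, dvd_rfl⟩
    let σ : Equiv.Perm N := (MulAut.conjNormal x).toEquiv
    have hσ : σ ^ (q ^ 1) = 1 := by
      have h1 : (MulAut.conjNormal x : MulAut N) ^ q = 1 := by
        rw [← map_pow, ← hx, pow_orderOf_eq_one, map_one]
      have h2 : ∀ (a : MulAut N) (k : ℕ), (a.toEquiv ^ k : Equiv.Perm N) = (a ^ k).toEquiv := by
        intro a k
        induction k with
        | zero => rfl
        | succ k ih => rw [pow_succ, pow_succ, ih]; rfl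
      show (MulAut.conjNormal x : MulAut N).toEquiv ^ (q ^ 1) = 1
      rw [pow_one, h2, h1]
      rfl
    classical
    have : Fintype N := Fintype.ofFinite N
    have h1 := Equiv.Perm.card_compl_support_modEq hσ
    have hfix : σ.supportᶜ = {1} := by
      ext y
      rw [Finset.mem_compl, Equiv.Perm.notMem_support, Finset.mem_singleton]
      refine ⟨fun hy => ?_, fun hy => by subst hy; exact map_one (MulAut.conjNormal x : MulAut N)⟩
      have hy' : x * (y : J1) * x⁻¹ = y := by
        simpa [σ] using congrArg Subtype.val hy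
      have hcomm : Commute (y : J1) x := by
        show (y : J1) * x = x * y
        nth_rw 1 [← hy']
        group
      have hdq := commute_orderOf_dvd hq hx hcomm
      rcases (Nat.dvd_prime hqp).mp hdq with h | h
      · exact Subtype.ext (orderOf_eq_one_iff.mp h)
      · rw [Subgroup.orderOf_coe] at h
        exact absurd (h ▸ orderOf_dvd_natCard y) hd
    rw [hfix, Finset.card_singleton, ← Nat.card_eq_fintype_card] at h1
    rw [← h1]
    exact Nat.mod_eq_of_lt hqp.one_lt

/-- The divisors of 175560. -/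
def divList : List ℕ :=
  ([1, 2, 4, 8].product ([1, 3].product ([1, 5].product ([1, 7].product ([1, 11].product [1, 19]))))).map
    fun t => t.1 * (t.2.1 * (t.2.2.1 * (t.2.2.2.1 * (t.2.2.2.2.1 * t.2.2.2.2.2))))

theorem mem_divList {n : ℕ} (h : n ∣ 175560) : n ∈ divList := by
  rw [show (175560 : ℕ) = 2 ^ 3 * (3 * (5 * (7 * (11 * 19)))) by norm_num] at h
  obtain ⟨a, n₁, ha, h₁, rfl⟩ := Nat.dvd_mul.mp h
  obtain ⟨b, n₂, hb, h₂, rfl⟩ := Nat.dvd_mul.mp h₁
  obtain ⟨c, n₃, hc, h₃, rfl⟩ := Nat.dvd_mul.mp h₂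
  obtain ⟨d, n₄, hd, h₄, rfl⟩ := Nat.dvd_mul.mp h₃
  obtain ⟨e, f, he, hf, rfl⟩ := Nat.dvd_mul.mp h₄
  rw [Nat.dvd_prime (by norm_num)] at hb hc hd he hf
  obtain ⟨i, hi, rfl⟩ := (Nat.dvd_prime_pow Nat.prime_two).mp ha
  interval_cases i <;> rcases hb with rfl | rfl <;> rcases hc with rfl | rfl <;>
    rcases hd with rfl | rfl <;> rcases he with rfl | rfl <;> rcases hf with rfl | rfl <;>
    decide +kernel

theorem numeric : ∀ k ∈ divList, k % 7 = 1 →
    ((k % 11 = 0 ∧ 175560 ≤ k * 11) ∨ k % 11 = 1) → ((k % 19 = 0 ∧ 175560 ≤ k * 19) ∨ k % 19 = 1) → k = 1 := by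
  decide +kernel

theorem isSimple_J1 : IsSimpleGroup J1 := by
  have : Nontrivial J1 := (Finite.one_lt_card_iff_nontrivial).mp (by rw [card_J1]; norm_num)
  refine ⟨fun N hN => ?_⟩
  rcases normal_card_cond N (q := 7) (by simp) with ⟨h7, -⟩ | h7
  · right
    have : Fact (Nat.Prime 7) := ⟨by norm_num⟩
    have hidx : ¬ 7 ∣ N.index := by
      intro h
      have := Nat.mul_dvd_mul (Nat.dvd_of_mod_eq_zero h7) h
      rw [Subgroup.card_mul_index, card_J1] at this
      norm_num at this
    have hmem7 : ∀ x : J1, x ^ 7 = 1 → x ∈ N := by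
      intro x hx
      rw [← QuotientGroup.eq_one_iff (N := N) x, ← orderOf_eq_one_iff]
      have h1 : orderOf (x : J1 ⧸ N) ∣ 7 :=
        orderOf_dvd_of_pow_eq_one (by rw [← QuotientGroup.mk_pow, hx, QuotientGroup.mk_one])
      rcases (Nat.dvd_prime Fact.out).mp h1 with h | h
      · exact h
      · refine absurd ?_ hidx
        have h2 := orderOf_dvd_natCard (x : J1 ⧸ N)
        rw [h, ← Subgroup.index_eq_card] at h2
        exact h2
    have hX : X' ∈ N := hmem7 _ X'_pow
    have hY : Y' ∈ N := by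
      obtain ⟨P⟩ : Nonempty (Sylow 7 N) := inferInstance
      have htop := Sylow.normalizer_sup_eq_top P
      have hYtop : Y' ∈ (⊤ : Subgroup J1) := Subgroup.mem_top _
      rw [← htop, Subgroup.mem_sup_of_normal_right] at hYtop
      obtain ⟨g, hg, n, hn, hgn⟩ := hYtop
      have hcardP : Nat.card ((P : Subgroup N).map N.subtype) = 7 := by
        rw [Nat.card_congr ((P : Subgroup N).equivMapOfInjective _ N.subtype_injective).symm.toEquiv,
          P.card_eq_multiplicity]
        have hf : (Nat.card N).factorization 7 = 1 := by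
          refine le_antisymm ?_ ((Fact.out : Nat.Prime 7).factorization_pos_of_dvd
            Nat.card_pos.ne' (Nat.dvd_of_mod_eq_zero h7))
          by_contra hlt
          have hd := (Nat.pow_dvd_pow 7 (show 2 ≤ (Nat.card N).factorization 7 by omega)).trans
            ((Nat.ordProj_dvd _ 7).trans N.card_subgroup_dvd_card)
          rw [card_J1] at hd
          norm_num at hd
        rw [hf, pow_one]
      obtain ⟨x, hxP, hx⟩ : ∃ x ∈ (P : Subgroup N).map N.subtype, orderOf x = 7 := by
        obtain ⟨x, hx⟩ := exists_prime_orderOf_dvd_card' (G := (P : Subgroup N).map N.subtype) 7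
          (by rw [hcardP])
        exact ⟨x, x.2, by rw [Subgroup.orderOf_coe, hx]⟩
      have hP : (P : Subgroup N).map N.subtype = Subgroup.zpowers x :=
        (Subgroup.eq_of_le_of_card_ge (Subgroup.zpowers_le.mpr hxP)
          (by rw [hcardP, Nat.card_zpowers, hx])).symm
      have hgx : g * x * g⁻¹ ∈ Subgroup.zpowers x := by
        rw [← hP]
        exact (Subgroup.mem_normalizer_iff.mp hg x).mp hxP
      rw [← mem_powers_iff_mem_zpowers, Submonoid.mem_powers_iff] at hgx
      obtain ⟨j, hj⟩ := hgx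
      have hit : ∀ i : ℕ, g ^ i * x * (g ^ i)⁻¹ = x ^ (j ^ i) := by
        intro i
        induction i with
        | zero => simp
        | succ i ih =>
          rw [show g ^ (i + 1) * x * (g ^ (i + 1))⁻¹ = g * (g ^ i * x * (g ^ i)⁻¹) * g⁻¹ by
            rw [pow_succ']; group, ih, ← conj_pow, ← hj, ← pow_mul, pow_succ']
      have hj0 : ¬ 7 ∣ j := by
        intro hd
        have : g * x * g⁻¹ = 1 := by
          rw [← hj, ← hx] at *
          exact orderOf_dvd_iff_pow_eq_one.mp hd
        rw [conj_eq_one_iff] at this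
        rw [this, orderOf_one] at hx
        norm_num at hx
      have hj6 : j ^ 6 ≡ 1 [MOD 7] := by
        rw [← ZMod.natCast_eq_natCast_iff, Nat.cast_pow, Nat.cast_one]
        exact ZMod.pow_card_sub_one_eq_one (fun e => hj0 ((ZMod.natCast_eq_zero_iff j 7).mp e))
      have hg6 : g ^ 6 ∈ Subgroup.centralizer {x} := by
        rw [Subgroup.mem_centralizer_singleton_iff]
        have h := hit 6
        rw [show x ^ (j ^ 6) = x from (pow_eq_pow_iff_modEq.mpr (hx.symm ▸ hj6)).trans (pow_one x)] at h
        exact (mul_inv_eq_iff_eq_mul.mp h)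
      rw [centralizer_eq (Or.inl rfl) hx, ← hP] at hg6
      have hg6N : g ^ 6 ∈ N := by
        obtain ⟨y, -, hy⟩ := hg6
        rw [← hy]
        exact y.2
      rw [← QuotientGroup.eq_one_iff (N := N) Y']
      have e : (Y' : J1 ⧸ N) = (g : J1 ⧸ N) := by
        rw [← hgn, QuotientGroup.mk_mul, (QuotientGroup.eq_one_iff n).mpr hn, mul_one]
      have h6 : (Y' : J1 ⧸ N) ^ 6 = 1 := by
        rw [e, ← QuotientGroup.mk_pow, QuotientGroup.eq_one_iff]
        exact hg6N
      have h5 : (Y' : J1 ⧸ N) ^ 5 = 1 := by rw [← QuotientGroup.mk_pow, Y'_pow, QuotientGroup.mk_one]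
      rw [pow_succ, h5, one_mul] at h6
      exact h6
    rw [eq_top_iff, ← closure_gens, Subgroup.closure_le]
    rintro z (rfl | rfl)
    exacts [hX, hY]
  · left
    have hd : Nat.card N ∣ 175560 := card_J1 ▸ N.card_subgroup_dvd_card
    exact Subgroup.card_eq_one.mp (numeric _ (mem_divList hd) h7 (normal_card_cond N (by simp))
      (normal_card_cond N (by simp)))

end Cfsg.Agent.J1
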