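import Cfsg.Agent.Lib.J1.Cert
import Cfsg.Agent.Lib.J1.ExtraData

/-! Kernel checks of the further certificate for the Janko group J₁. -/

namespace Cfsg.Agent.J1Cert

open Cfsg.Agent.J1Mat

/-- The code of `s ^ i * t * s ^ (7 - i)`. -/
def eCode (i : ℕ) : ℕ := mul (mul (powN sCode i) tCode) (powN sCode (7 - i))

/-- The code of a product of powers of three commuting involutions. -/
def prodCode (i j k : ℕ) : ℕ := mul (mul (powN (eCode 0) i) (powN (eCode 1) j)) (powN (eCode 2) k)

/-- The eight codes of the elementary abelian group. -/
def eList : List ℕ := idCode :: (List.range 7).map eCode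

/-- The elementary abelian group of order 8 and the element of order 7 permuting its involutions. -/
def fanoOk : Bool :=
  Nat.beq (powN sCode 7) idCode && Nat.beq (mul tCode tCode) idCode && !(Nat.beq tCode idCode) &&
  Nat.beq (eCode 3) (mul (eCode 0) (eCode 1)) &&
  Nat.beq (mul (eCode 0) (eCode 1)) (mul (eCode 1) (eCode 0)) &&
  Nat.beq (mul (eCode 0) (eCode 2)) (mul (eCode 2) (eCode 0)) &&
  Nat.beq (mul (eCode 1) (eCode 2)) (mul (eCode 2) (eCode 1)) &&
  decide eList.Nodup &&
  eList.all (fun a => eList.all fun b => eList.contains (mul a b)) &&
  eList.all (fun a => Nat.beq (mul a a) idCode &&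
    (List.range 2).any fun i => (List.range 2).any fun j => (List.range 2).any fun k =>
      Nat.beq a (prodCode i j k))

/-- The table of the alternating group of degree five inside the centraliser. -/
def a5Ok : Bool :=
  decide (a5Code.length = 60) && decide (a5Perm.length = 60) && decide a5Perm.Nodup &&
  decide a5Code.Nodup && !(a5Code.contains tCode) &&
  Nat.beq (mul gaCode tCode) (mul tCode gaCode) && Nat.beq (mul gbCode tCode) (mul tCode gbCode) &&
  parOk gaCode gbCode a5Code a5Par &&
  allFrom (fun n x => decide (a5A.getD n 60 < 60) && decide (a5B.getD n 60 < 60) &&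
    Nat.beq (mul gaCode x) (a5Code.getD (a5A.getD n 60) 0) &&
    Nat.beq (mul gbCode x) (a5Code.getD (a5B.getD n 60) 0)) a5Code 0

/-- The table of powers of the first generator. -/
def pListOk : Bool :=
  decide (pList.length = 8) && allFrom (fun i x => Nat.beq x (powN xCode i)) pList 0

/-- The code of `X ^ i`. -/
def pc (i : ℕ) : ℕ := pList.getD i 0

/-- The code of `X ^ i * r * X ^ (7 - i)`. -/
def conjX (i r : ℕ) : ℕ := mul (mul (pc i) r) (pc (7 - i))

/-- Conjugation by the second generator maps the orbit list into itself. -/
def cjTabOk : Bool :=
  allFrom (fun k r => (List.range 7).all fun i =>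
    match (cjTab.getD k []).getD i (209, 7) with
    | (k', j) => decide (k' < 209) && decide (j < 7) &&
        Nat.beq (cjReps.getD k' 0)
          (mul (mul (pc (7 - j)) (mul (mul yCode (conjX i r)) yInvCode)) (pc j))) cjReps 0

/-- The value of a word in `X` and an involution. -/
def letVal (r : ℕ) : List ℕ → ℕ
  | [] => idCode
  | a :: l => mul (mul (pc a) r) (letVal r l)

/-- Every representative other than the first is told apart from the first by a word. -/
def cjTestOk : Bool :=
  allFrom (fun k r => k == 0 ||
    match cjTests.getD k ([], 0) with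
    | (l, n) => l.all (fun a => decide (a < 7)) &&
        (Nat.beq (powN (letVal r l) n) idCode != Nat.beq (powN (letVal tCode l) n) idCode)) cjReps 0

theorem word_t : wordVal tWord = tCode := by decide +kernel
theorem word_s : wordVal sWord = sCode := by decide +kernel
theorem word_ga : wordVal gaWord = gaCode := by decide +kernel
theorem word_gb : wordVal gbWord = gbCode := by decide +kernel
theorem fano_ok : fanoOk = true := by decide +kernel
theorem a5_ok : a5Ok = true := by decide +kernel
theorem pList_ok : pListOk = true := by decide +kernel
theorem yInv_ok : powN yCode 4 = yInvCode := by decide +kernel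
theorem word_n : mul (wordVal nWord) xCode = mul (pc 3) (wordVal nWord) := by decide +kernel
theorem cjReps_zero : cjReps.getD 0 0 = tCode ∧ cjReps.length = 209 := by decide +kernel
theorem cjTab_ok : cjTabOk = true := by decide +kernel
theorem cjTest_ok : cjTestOk = true := by decide +kernel
theorem yLetters_ok : yLetters.all (fun a => decide (a < 7)) = true ∧ yTail < 7 ∧
    mul (letVal tCode yLetters) (pc yTail) = yCode := by decide +kernel

end Cfsg.Agent.J1Cert
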