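import Cfsg.Agent.Lib.J1.Simple
import Cfsg.Agent.Lib.J1.ExtraCert
import Mathlib.GroupTheory.SpecificGroups.Alternating

/-! Involutions of the Janko group J₁. -/

namespace Cfsg.Agent.J1

open Cfsg.Spor Cfsg.Agent.J1Mat Cfsg.Agent.J1Cert

/-- The code of an element of J₁. -/
def cd (g : J1) : ℕ := code (g : GL (Fin 7) (ZMod 11))

theorem cd_injective : Function.Injective cd := fun _ _ h => Subtype.ext (code_injective h)

theorem cd_mul (g h : J1) : cd (g * h) = mul (cd g) (cd h) := code_mul _ _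

theorem cd_one : cd 1 = idCode := code_one

theorem cd_pow (g : J1) (n : ℕ) : cd (g ^ n) = powN (cd g) n := by
  rw [cd, SubgroupClass.coe_pow, code_pow]
  rfl

/-- The element of a word in the generators. -/
def el (w : List ℕ) : J1 := ⟨wordElt w, wordElt_mem w⟩

theorem cd_el (w : List ℕ) : cd (el w) = wordVal w := code_wordElt w

attribute [local irreducible] cd

/-- An involution. -/
def T : J1 := el tWord

/-- An element of order 7 acting on an elementary abelian group of order 8 containing `T`. -/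
def S : J1 := el sWord

theorem cd_T : cd T = tCode := (cd_el _).trans word_t
theorem cd_S : cd S = sCode := (cd_el _).trans word_s

/-- The involutions of the elementary abelian group. -/
def ev' (i : ℕ) : J1 := S ^ i * T * S ^ (7 - i)

theorem cd_ev (i : ℕ) : cd (ev' i) = eCode i := by
  rw [ev', cd_mul, cd_mul, cd_pow, cd_pow, cd_T, cd_S]
  rfl

theorem S_pow : S ^ 7 = 1 := by
  have h := fano_ok
  simp only [fanoOk, Bool.and_eq_true] at h
  refine cd_injective ?_
  rw [cd_pow, cd_S, cd_one]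
  exact Nat.eq_of_beq_eq_true h.1.1.1.1.1.1.1.1.1

theorem T_sq : T * T = 1 := by
  have h := fano_ok
  simp only [fanoOk, Bool.and_eq_true] at h
  refine cd_injective ?_
  rw [cd_mul, cd_T, cd_one]
  exact Nat.eq_of_beq_eq_true h.1.1.1.1.1.1.1.1.2

theorem T_ne_one : T ≠ 1 := by
  intro e
  have : tCode = idCode := by rw [← cd_T, e, cd_one]
  exact absurd this (by decide +kernel)

theorem orderOf_T : orderOf T = 2 := by
  have : Fact (Nat.Prime 2) := ⟨Nat.prime_two⟩
  exact orderOf_eq_prime (by rw [pow_two]; exact T_sq) T_ne_one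

theorem ev_zero : ev' 0 = T := by simp [ev', S_pow]

theorem inv_S_pow {i : ℕ} (hi : i ≤ 7) : (S ^ i)⁻¹ = S ^ (7 - i) :=
  inv_eq_of_mul_eq_one_right (by rw [← pow_add, show i + (7 - i) = 7 by omega, S_pow])

theorem ev_eq_conj {i : ℕ} (hi : i ≤ 7) : ev' i = S ^ i * T * (S ^ i)⁻¹ := by
  rw [ev', inv_S_pow hi]

theorem conj_ev {i : ℕ} (hi : i < 7) : S * ev' i * S⁻¹ = ev' (i + 1) := by
  rw [ev_eq_conj hi.le, ev_eq_conj (by omega), pow_succ']
  group

theorem fano_rel : ev' 3 = ev' 0 * ev' 1 ∧ Commute (ev' 0) (ev' 1) ∧ Commute (ev' 0) (ev' 2) ∧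
    Commute (ev' 1) (ev' 2) := by
  have h := fano_ok
  simp only [fanoOk, Bool.and_eq_true] at h
  refine ⟨cd_injective ?_, cd_injective ?_, cd_injective ?_, cd_injective ?_⟩ <;>
    simp only [cd_mul, cd_ev]
  exacts [Nat.eq_of_beq_eq_true h.1.1.1.1.1.1.2, Nat.eq_of_beq_eq_true h.1.1.1.1.1.2,
    Nat.eq_of_beq_eq_true h.1.1.1.1.2, Nat.eq_of_beq_eq_true h.1.1.1.2]

theorem exists_of_mem_eList {a : ℕ} (ha : a ∈ eList) : ∃ g : J1, cd g = a := by
  rw [eList, List.mem_cons] at ha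
  rcases ha with rfl | ha
  · exact ⟨1, cd_one⟩
  · obtain ⟨i, -, rfl⟩ := List.mem_map.mp ha
    exact ⟨ev' i, cd_ev i⟩

/-- An elementary abelian Sylow 2-subgroup. -/
def E8 : Subgroup J1 where
  carrier := {g | cd g ∈ eList}
  one_mem' := by
    show cd 1 ∈ eList
    rw [cd_one, eList]
    exact List.mem_cons_self
  mul_mem' := by
    intro a b (ha : cd a ∈ eList) (hb : cd b ∈ eList)
    have h := fano_ok
    simp only [fanoOk, Bool.and_eq_true, List.all_eq_true, List.contains_eq_mem, decide_eq_true_eq] at h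
    show cd (a * b) ∈ eList
    rw [cd_mul]
    exact h.1.2 _ ha _ hb
  inv_mem' := by
    intro a (ha : cd a ∈ eList)
    have h := fano_ok
    simp only [fanoOk, Bool.and_eq_true, List.all_eq_true] at h
    show cd a⁻¹ ∈ eList
    have e : a * a = 1 := cd_injective <| by
      rw [cd_mul, cd_one]
      exact Nat.eq_of_beq_eq_true (h.2 _ ha).1
    rwa [inv_eq_of_mul_eq_one_right e]

theorem mem_E8 {g : J1} : g ∈ E8 ↔ cd g ∈ eList := Iff.rfl

theorem card_of_list {H : Subgroup J1} {l : List ℕ} (hn : l.Nodup) (hH : ∀ g, g ∈ H ↔ cd g ∈ l)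
    (hl : ∀ a ∈ l, ∃ g : J1, cd g = a) : Nat.card H = l.length := by
  classical
  have hb : Function.Bijective fun g : H => (⟨cd g.1, (hH g.1).mp g.2⟩ : {a // a ∈ l}) := by
    refine ⟨fun a b e => Subtype.ext (cd_injective (congrArg Subtype.val e)), ?_⟩
    rintro ⟨a, ha⟩
    obtain ⟨g, rfl⟩ := hl a ha
    exact ⟨⟨g, (hH g).mpr ha⟩, rfl⟩
  rw [Nat.card_eq_of_bijective _ hb, Nat.card_eq_fintype_card,
    Fintype.card_of_subtype l.toFinset (fun x => List.mem_toFinset), List.toFinset_card_of_nodup hn]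

theorem card_E8 : Nat.card E8 = 8 := by
  have h := fano_ok
  simp only [fanoOk, Bool.and_eq_true, decide_eq_true_eq] at h
  rw [card_of_list h.1.1.2 (fun g => mem_E8) (fun a ha => exists_of_mem_eList ha), eList,
    List.length_cons, List.length_map, List.length_range]

theorem E8_cases {g : J1} (hg : g ∈ E8) : g = 1 ∨ ∃ i < 7, g = S ^ i * T * (S ^ i)⁻¹ := by
  rw [mem_E8, eList, List.mem_cons] at hg
  rcases hg with hg | hg
  · exact Or.inl (cd_injective (hg.trans cd_one.symm))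
  · obtain ⟨i, hi, he⟩ := List.mem_map.mp hg
    rw [List.mem_range] at hi
    exact Or.inr ⟨i, hi, cd_injective (by rw [← ev_eq_conj hi.le, cd_ev, he])⟩

theorem E8_prod {g : J1} (hg : g ∈ E8) :
    ∃ i j k : ℕ, g = ev' 0 ^ i * ev' 1 ^ j * ev' 2 ^ k := by
  have h := fano_ok
  simp only [fanoOk, Bool.and_eq_true, List.all_eq_true, List.any_eq_true] at h
  obtain ⟨i, -, j, -, k, -, e⟩ := (h.2 _ (mem_E8.mp hg)).2
  refine ⟨i, j, k, cd_injective ?_⟩
  simp only [cd_mul, cd_pow, cd_ev]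
  exact Nat.eq_of_beq_eq_true e

/-- Every involution is conjugate to `T`. -/
theorem involution_conj {u : J1} (h1 : u ≠ 1) (h2 : u * u = 1) : ∃ g : J1, u = g * T * g⁻¹ := by
  have : Fact (Nat.Prime 2) := ⟨Nat.prime_two⟩
  have hu : IsPGroup 2 (Subgroup.zpowers u) := by
    rw [IsPGroup.iff_card]
    exact ⟨1, by rw [Nat.card_zpowers, orderOf_eq_prime (by rw [pow_two]; exact h2) h1, pow_one]⟩
  obtain ⟨P, hP⟩ := hu.exists_le_sylow
  let Q : Sylow 2 J1 := Sylow.ofCard E8 (by
    rw [card_E8, card_J1, show (175560 : ℕ) = 2 ^ 3 * 21945 by norm_num,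
      Nat.factorization_mul (by norm_num) (by norm_num), Finsupp.add_apply, Nat.Prime.factorization_pow Nat.prime_two,
      Finsupp.single_eq_same, Nat.factorization_eq_zero_of_not_dvd (by norm_num : ¬ 2 ∣ 21945)]
    rfl)
  obtain ⟨g, hg⟩ := MulAction.exists_smul_eq J1 Q P
  have hu' : u ∈ (P : Subgroup J1) := hP (Subgroup.mem_zpowers u)
  rw [← hg, Sylow.coe_subgroup_smul, Subgroup.mem_pointwise_smul_iff_inv_smul_mem] at hu'
  simp only [← map_inv, MulAut.smul_def, MulAut.conj_apply, inv_inv] at hu'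
  rcases E8_cases (show g⁻¹ * u * g ∈ E8 from hu') with e | ⟨i, -, e⟩
  · exact absurd (by rw [show u = g * (g⁻¹ * u * g) * g⁻¹ by group, e]; group) h1
  · exact ⟨g * S ^ i, by rw [show u = g * (g⁻¹ * u * g) * g⁻¹ by group, e]; group⟩

theorem cd_X : cd X' = xCode := by rw [cd]; exact code_X'
theorem cd_Y : cd Y' = yCode := by rw [cd]; exact code_Y

theorem cd_X_pow {i : ℕ} (hi : i < 8) : cd (X' ^ i) = pc i := by
  have h := pList_ok
  simp only [pListOk, Bool.and_eq_true, decide_eq_true_eq] at h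
  have e := allFrom_spec (d := 0) h.2 i (by rw [h.1]; exact hi)
  rw [zero_add] at e
  rw [cd_pow, cd_X]
  exact (Nat.eq_of_beq_eq_true e).symm

theorem cd_Y_inv : cd Y'⁻¹ = yInvCode := by
  rw [inv_eq_of_mul_eq_one_right (show Y' * Y' ^ 4 = 1 by rw [← pow_succ', Y'_pow]), cd_pow, cd_Y, yInv_ok]

theorem inv_X_pow {i : ℕ} (hi : i ≤ 7) : (X' ^ i)⁻¹ = X' ^ (7 - i) :=
  inv_eq_of_mul_eq_one_right (by rw [← pow_add, show i + (7 - i) = 7 by omega, X'_pow])

/-- Conjugates of the recorded representatives by powers of the first generator. -/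
def InList (u : J1) : Prop :=
  ∃ k < 209, ∃ i < 7, ∃ r : J1, cd r = cjReps.getD k 0 ∧ u = X' ^ i * r * (X' ^ i)⁻¹

theorem inList_X {u : J1} (h : InList u) : InList (X' * u * X'⁻¹) := by
  obtain ⟨k, hk, i, hi, r, hr, rfl⟩ := h
  refine ⟨k, hk, (i + 1) % 7, Nat.mod_lt _ (by norm_num), r, hr, ?_⟩
  rw [show X' ^ ((i + 1) % 7) = X' ^ (i + 1) by
    conv_rhs => rw [← Nat.mod_add_div (i + 1) 7, pow_add, pow_mul, X'_pow, one_pow, mul_one]]
  rw [pow_succ']
  group

theorem inList_Y {u : J1} (h : InList u) : InList (Y' * u * Y'⁻¹) := by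
  obtain ⟨k, hk, i, hi, r, hr, rfl⟩ := h
  have e := allFrom_spec (d := 0) cjTab_ok k (by rw [cjReps_zero.2]; exact hk)
  rw [zero_add, List.all_eq_true] at e
  have e' := e i (List.mem_range.mpr hi)
  rcases hrow : (cjTab.getD k []).getD i (209, 7) with ⟨k', j⟩
  rw [hrow] at e'
  simp only [Bool.and_eq_true, decide_eq_true_eq] at e'
  refine ⟨k', e'.1.1, j, e'.1.2, (X' ^ j)⁻¹ * (Y' * (X' ^ i * r * (X' ^ i)⁻¹) * Y'⁻¹) * X' ^ j, ?_, by group⟩
  rw [inv_X_pow (show j ≤ 7 by omega), inv_X_pow hi.le]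
  simp only [cd_mul, cd_Y, cd_Y_inv, hr]
  rw [cd_X_pow (show 7 - j < 8 by omega), cd_X_pow (show j < 8 by omega), cd_X_pow (show i < 8 by omega),
    cd_X_pow (show 7 - i < 8 by omega)]
  exact (Nat.eq_of_beq_eq_true e'.2).symm

theorem inList_conj (g : J1) : InList (g * T * g⁻¹) := by
  have hg : g ∈ Submonoid.closure ({X', Y'} : Set J1) := by
    have h : g ∈ Subgroup.closure ({X', Y'} : Set J1) := by rw [closure_gens]; exact Subgroup.mem_top g
    rw [← Subgroup.mem_toSubmonoid,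
      Subgroup.closure_toSubmonoid_of_isOfFinOrder (fun x _ => isOfFinOrder_of_finite x)] at h
    exact h
  induction hg using Submonoid.closure_induction_left with
  | one =>
    exact ⟨0, by norm_num, 0, by norm_num, T, cd_T.trans cjReps_zero.1.symm, by simp⟩
  | mul_left x hx y hy ih =>
    rw [show x * y * T * (x * y)⁻¹ = x * (y * T * y⁻¹) * x⁻¹ by group]
    rcases hx with rfl | rfl
    exacts [inList_X ih, inList_Y ih]

end Cfsg.Agent.J1
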