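import Cfsg.Agent.Lib.J1.CertHint4

/-! Kernel checks of the certificate for the Janko group J₁. -/

namespace Cfsg.Agent.J1Cert

open Cfsg.Agent.J1Mat

theorem lengths : hList.length = 660 ∧ uList.length = 266 ∧ reps.all (fun r => r < 266) = true := by
  decide +kernel

theorem idCode_eq : enc 1 = idCode := by decide +kernel
theorem word_a : wordVal aWord = aCode := by decide +kernel
theorem word_b : wordVal bWord = bCode := by decide +kernel
theorem uX_ok : uTabOk xCode uX = true := by decide +kernel
theorem uY_ok : uTabOk yCode uY = true := by decide +kernel
theorem uPar_ok : parOk xCode yCode uList uPar = true := by decide +kernel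
theorem orbit_ok : orbitOk = true := by decide +kernel
theorem witness_ok : witnessOk = true := by decide +kernel
theorem eight_ok : eightOk = true := by decide +kernel
theorem hints_reps : hints.map Prod.fst = reps := by decide +kernel
theorem hint_ok : hints.all hintOk = true := by
  simp only [hints, List.all_cons, List.all_nil, hint_ok0, hint_ok1, hint_ok2, hint_ok3, hint_ok4,
    Bool.and_self]

end Cfsg.Agent.J1Cert
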