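import Cfsg.Prelude.Def_Spor_J1
import Cfsg.Agent.Lib.J1.Cert
import Mathlib.GroupTheory.OrderOfElement
import Mathlib.GroupTheory.PGroup
import Mathlib.GroupTheory.Index
import Mathlib.Algebra.Group.Submonoid.Basic
import Mathlib.Data.Nat.Prime.Basic

/-! The order and the element orders of the Janko group J₁. -/

namespace Cfsg.Agent.J1

open Cfsg.Agent.J1Mat Cfsg.Agent.J1Cert Cfsg.Spor

/-- The code of a group element. -/
def code (g : GL (Fin 7) (ZMod 11)) : ℕ := enc (g : Matrix (Fin 7) (Fin 7) (ZMod 11))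

theorem code_injective : Function.Injective code := fun _ _ h => Units.ext (enc_injective h)

theorem code_mul (g h : GL (Fin 7) (ZMod 11)) : code (g * h) = mul (code g) (code h) := by
  rw [code, code, code, mul_enc, Units.val_mul]

theorem code_one : code 1 = idCode := idCode_eq

theorem code_X : code jankoX = xCode := by
  show enc jankoMatrixX = xCode
  decide +kernel

theorem code_Y : code jankoY = yCode := by
  show enc jankoMatrixY = yCode
  decide +kernel

theorem code_pow (g : GL (Fin 7) (ZMod 11)) : ∀ n, code (g ^ n) = powN (code g) n := by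
  intro n
  induction n with
  | zero => rw [pow_zero]; exact code_one
  | succ n ih => rw [pow_succ', code_mul, ih]; rfl

/-- The product of generators along a word. -/
def wordElt : List ℕ → GL (Fin 7) (ZMod 11)
  | [] => 1
  | k :: l => (if k = 0 then jankoX else jankoY) * wordElt l

theorem code_wordElt : ∀ l, code (wordElt l) = wordVal l := by
  intro l
  induction l with
  | nil => exact code_one
  | cons k l ih =>
    rw [wordElt, wordVal, code_mul, ih]
    split <;> simp [code_X, code_Y]

theorem X_mem : jankoX ∈ J1 := Subgroup.subset_closure (by simp)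
theorem Y_mem : jankoY ∈ J1 := Subgroup.subset_closure (by simp)

theorem wordElt_mem : ∀ l, wordElt l ∈ J1 := by
  intro l
  induction l with
  | nil => exact J1.one_mem
  | cons k l ih =>
    refine J1.mul_mem ?_ ih
    split
    exacts [X_mem, Y_mem]

/-- The first generator of the subgroup of order 660. -/
def genA : GL (Fin 7) (ZMod 11) := wordElt aWord

/-- The second generator of the subgroup of order 660. -/
def genB : GL (Fin 7) (ZMod 11) := wordElt bWord

theorem code_genA : code genA = aCode := (code_wordElt _).trans word_a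
theorem code_genB : code genB = bCode := (code_wordElt _).trans word_b

/-- The subgroup L₂(11) of J₁. -/
def H : Subgroup (GL (Fin 7) (ZMod 11)) := Subgroup.closure {genA, genB}

theorem H_le : H ≤ J1 := by
  rw [H, Subgroup.closure_le]
  rintro x (rfl | rfl) <;> exact wordElt_mem _

theorem codes_of_parOk {x y : GL (Fin 7) (ZMod 11)} {K : Subgroup (GL (Fin 7) (ZMod 11))}
    (hx : x ∈ K) (hy : y ∈ K) {L : List ℕ} {P : List (ℕ × ℕ)} {m : ℕ} (hm : L.length = m)
    (hok : parOk (code x) (code y) L P = true) :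
    ∀ n < m, ∃ g ∈ K, code g = L.getD n 0 := by
  intro n
  induction n using Nat.strong_induction_on with
  | _ n ih =>
    intro hn
    have h := allFrom_spec (d := 0) hok n (hm ▸ hn)
    rw [zero_add] at h
    by_cases h0 : n = 0
    · rw [if_pos h0] at h
      exact ⟨1, K.one_mem, code_one.trans (Nat.eq_of_beq_eq_true h).symm⟩
    · rw [if_neg h0] at h
      simp only [Bool.and_eq_true, decide_eq_true_eq] at h
      obtain ⟨g, hg, hgc⟩ := ih _ h.1.2 (h.1.2.trans hn)
      refine ⟨(if (P.getD n (2, n)).1 = 0 then x else y) * g, K.mul_mem (by split <;> assumption) hg, ?_⟩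
      rw [code_mul, hgc, Nat.eq_of_beq_eq_true h.2]
      split <;> rfl

theorem exists_h {n : ℕ} (hn : n < 660) : ∃ g ∈ H, code g = h n :=
  codes_of_parOk (x := genA) (y := genB) (Subgroup.subset_closure (by simp))
    (Subgroup.subset_closure (by simp)) lengths.1
    (by rw [code_genA, code_genB]; exact hPar_ok) n hn

theorem exists_u {i : ℕ} (hi : i < 266) : ∃ g ∈ J1, code g = u i :=
  codes_of_parOk X_mem Y_mem lengths.2.1 (by rw [code_X, code_Y]; exact uPar_ok) i hi

theorem h_zero : h 0 = idCode := by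
  have e := allFrom_spec (d := 0) hPar_ok 0 (by rw [lengths.1]; norm_num)
  exact Nat.eq_of_beq_eq_true e

theorem u_zero : u 0 = idCode := by
  have e := allFrom_spec (d := 0) uPar_ok 0 (by rw [lengths.2.1]; norm_num)
  exact Nat.eq_of_beq_eq_true e

theorem hTab_step {g : GL (Fin 7) (ZMod 11)} {T : List ℕ} (hok : hTabOk (code g) T = true) {n : ℕ}
    (hn : n < 660) {x : GL (Fin 7) (ZMod 11)} (hx : code x = h n) :
    ∃ n' < 660, code (g * x) = h n' := by
  have e := allFrom_spec (d := 0) hok n (by rw [lengths.1]; exact hn)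
  simp only [zero_add, Bool.and_eq_true, decide_eq_true_eq] at e
  refine ⟨_, e.1, ?_⟩
  rw [code_mul, hx]
  exact Nat.eq_of_beq_eq_true e.2

theorem closure_mem_submonoid {s : Set (GL (Fin 7) (ZMod 11))} {g : GL (Fin 7) (ZMod 11)}
    (hg : g ∈ Subgroup.closure s) : g ∈ Submonoid.closure s := by
  have hfin : ∀ x ∈ s, IsOfFinOrder x := fun x _ => isOfFinOrder_of_finite x
  rw [← Subgroup.mem_toSubmonoid, Subgroup.closure_toSubmonoid_of_isOfFinOrder hfin] at hg
  exact hg

theorem code_of_mem_H {g : GL (Fin 7) (ZMod 11)} (hg : g ∈ H) : ∃ n < 660, code g = h n := by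
  induction closure_mem_submonoid hg using Submonoid.closure_induction_left with
  | one => exact ⟨0, by norm_num, code_one.trans h_zero.symm⟩
  | mul_left x hx y hy ih =>
    obtain ⟨n, hn, hy'⟩ := ih ((Submonoid.closure_le.mpr Subgroup.subset_closure) hy)
    rcases hx with rfl | rfl
    · exact hTab_step (by rw [code_genA]; exact hA_ok) hn hy'
    · exact hTab_step (by rw [code_genB]; exact hB_ok) hn hy'

/-- The decomposition of an element of J₁ into coset representative and element of `H`. -/
theorem exists_decomp {g : GL (Fin 7) (ZMod 11)} (hg : g ∈ J1) :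
    ∃ i < 266, ∃ y ∈ H, ∃ v ∈ J1, code v = u i ∧ g = v * y := by
  induction closure_mem_submonoid hg using Submonoid.closure_induction_left with
  | one => exact ⟨0, by norm_num, 1, H.one_mem, 1, J1.one_mem, code_one.trans u_zero.symm, by simp⟩
  | mul_left x hx z hz ih =>
    obtain ⟨i, hi, y, hy, v, hv, hvc, rfl⟩ :=
      ih ((Submonoid.closure_le.mpr Subgroup.subset_closure) hz)
    have key : ∀ T, uTabOk (code x) T = true →
        ∃ j < 266, ∃ y' ∈ H, ∃ v' ∈ J1, code v' = u j ∧ x * (v * y) = v' * y' := by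
      intro T hT
      have e := allFrom_spec (d := 0) hT i (by rw [lengths.2.1]; exact hi)
      simp only [zero_add, Bool.and_eq_true, decide_eq_true_eq] at e
      obtain ⟨v', hv', hv'c⟩ := exists_u e.1.1
      obtain ⟨k, hk, hkc⟩ := exists_h e.1.2
      refine ⟨_, e.1.1, k * y, H.mul_mem hk hy, v', hv', hv'c, ?_⟩
      have : x * v = v' * k := code_injective <| by
        rw [code_mul, code_mul, hvc, hv'c, hkc]
        exact Nat.eq_of_beq_eq_true e.2
      rw [← mul_assoc, this, mul_assoc]
    rcases hx with rfl | rfl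
    · exact key uX (by rw [code_X]; exact uX_ok)
    · exact key uY (by rw [code_Y]; exact uY_ok)

theorem code_forms {g : GL (Fin 7) (ZMod 11)} (hg : g ∈ J1) :
    ∃ i < 266, ∃ n < 660, code g = mul (u i) (h n) := by
  obtain ⟨i, hi, y, hy, v, _, hvc, rfl⟩ := exists_decomp hg
  obtain ⟨n, hn, hyc⟩ := code_of_mem_H hy
  exact ⟨i, hi, n, hn, by rw [code_mul, hvc, hyc]⟩

theorem card_le : Nat.card J1 ≤ 175560 := by
  choose i hi n hn he using fun g : J1 => code_forms g.2
  refine (Nat.card_le_card_of_injective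
    (fun g : J1 => ((⟨i g, hi g⟩ : Fin 266), (⟨n g, hn g⟩ : Fin 660))) fun a b e => ?_).trans
    (by simp)
  simp only [Prod.mk.injEq, Fin.mk.injEq] at e
  exact Subtype.ext (code_injective (by rw [he, he, e.1, e.2]))

/-- An element recorded as `(order, coset, element of H)`. -/
theorem exists_orderOf_witness {k i n : ℕ} (ht : (k, i, n) ∈ witnesses) :
    ∃ g : J1, orderOf g = k := by
  have hw := witness_ok
  rw [witnessOk, List.all_eq_true] at hw
  have hk := hw _ ht
  simp only [Bool.and_eq_true, decide_eq_true_eq, List.all_eq_true, Bool.or_eq_true, List.mem_range,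
    beq_iff_eq, Bool.not_eq_true'] at hk
  obtain ⟨⟨⟨hi, hn⟩, hp⟩, hmin⟩ := hk
  obtain ⟨v, hv, hvc⟩ := exists_u hi
  obtain ⟨y, hy, hyc⟩ := exists_h hn
  have hc : code (v * y) = mul (u i) (h n) := by rw [code_mul, hvc, hyc]
  refine ⟨⟨v * y, J1.mul_mem hv (H_le hy)⟩, ?_⟩
  rw [← Subgroup.orderOf_coe]
  have hk0 : 0 < k := by
    have hmem : ∀ t ∈ witnesses, 0 < t.1 := by decide
    exact hmem _ ht
  rw [orderOf_eq_iff hk0]
  refine ⟨code_injective ?_, fun j hj hj0 hpow => ?_⟩
  · rw [code_pow, code_one, hc]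
    exact Nat.eq_of_beq_eq_true hp
  · rcases hmin j hj with h0 | h0
    · omega
    · refine Nat.ne_of_beq_eq_false h0 ?_
      rw [← hc, ← code_pow]
      exact (congrArg code hpow).trans code_one

theorem eight_dvd : 8 ∣ Nat.card J1 := by
  have he := eight_ok
  simp only [eightOk, Bool.and_eq_true, List.all_eq_true, decide_eq_true_eq, List.mem_range,
    Bool.not_eq_true'] at he
  obtain ⟨⟨⟨⟨hall, h0⟩, h1⟩, h10⟩, h2⟩ := he
  have hex : ∀ i < 3, ∃ g : J1, code (g : GL (Fin 7) (ZMod 11)) = inv i := by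
    intro i hi
    obtain ⟨⟨⟨ha, hb⟩, _⟩, _⟩ := hall i hi
    obtain ⟨v, hv, hvc⟩ := exists_u ha
    obtain ⟨y, hy, hyc⟩ := exists_h hb
    refine ⟨⟨v * y, J1.mul_mem hv (H_le hy)⟩, ?_⟩
    rw [code_mul, hvc, hyc]
    simp only [inv]
    rw [List.getD_eq_getElem _ _ (by simp [invols]; omega), List.getD_eq_getElem _ _ (by simp [invols]; omega)]
  obtain ⟨a, ha⟩ := hex 0 (by norm_num)
  obtain ⟨b, hb⟩ := hex 1 (by norm_num)
  obtain ⟨c, hc⟩ := hex 2 (by norm_num)
  have hsq : ∀ (i : ℕ) (g : J1), i < 3 → code (g : GL (Fin 7) (ZMod 11)) = inv i → g * g = 1 := by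
    intro i g hi hg
    refine Subtype.ext (code_injective ?_)
    rw [Subgroup.coe_mul, code_mul, hg, OneMemClass.coe_one, code_one]
    exact Nat.eq_of_beq_eq_true (hall i hi).1.2
  have hcomm : ∀ (i j : ℕ) (g k : J1), i < 3 → j < 3 → code (g : GL (Fin 7) (ZMod 11)) = inv i →
      code (k : GL (Fin 7) (ZMod 11)) = inv j → g * k = k * g := by
    intro i j g k hi hj hg hk
    refine Subtype.ext (code_injective ?_)
    rw [Subgroup.coe_mul, Subgroup.coe_mul, code_mul, code_mul, hg, hk]
    exact Nat.eq_of_beq_eq_true ((hall i hi).2 j hj)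
  let S : Subgroup J1 := Subgroup.closure {a, b, c}
  have hSc : ∀ x ∈ S, ∀ y ∈ S, x * y = y * x := by
    intro x hx y hy
    refine Subgroup.closure_induction₂ ?_ ?_ ?_ ?_ ?_ ?_ ?_ hx hy
    · rintro p q (hp | hp | hp) (hq | hq | hq) <;> rw [hp, hq] <;>
        first
          | rfl
          | exact hcomm 0 1 a b (by norm_num) (by norm_num) ha hb
          | exact (hcomm 0 1 a b (by norm_num) (by norm_num) ha hb).symm
          | exact hcomm 0 2 a c (by norm_num) (by norm_num) ha hc
          | exact (hcomm 0 2 a c (by norm_num) (by norm_num) ha hc).symm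
          | exact hcomm 1 2 b c (by norm_num) (by norm_num) hb hc
          | exact (hcomm 1 2 b c (by norm_num) (by norm_num) hb hc).symm
    · intro x _; simp
    · intro x _; simp
    · intro x y z _ _ _ h₁ h₂; rw [mul_assoc, h₂, ← mul_assoc, h₁, mul_assoc]
    · intro y z x _ _ _ h₁ h₂; rw [← mul_assoc, h₁, mul_assoc, h₂, ← mul_assoc]
    · intro x y _ _ h; exact (Commute.inv_left h).eq
    · intro x y _ _ h; exact (Commute.inv_right h).eq
  have hS2 : ∀ x ∈ S, x * x = 1 := by
    intro x hx
    induction hx using Subgroup.closure_induction with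
    | mem x hx =>
      rcases hx with rfl | rfl | rfl
      exacts [hsq 0 _ (by norm_num) ha, hsq 1 _ (by norm_num) hb, hsq 2 _ (by norm_num) hc]
    | one => simp
    | mul x y hx hy ihx ihy =>
      calc x * y * (x * y) = x * (y * x) * y := by group
        _ = x * x * (y * y) := by rw [hSc y hy x hx]; group
        _ = 1 := by rw [ihx, ihy, one_mul]
    | inv x _ ih => rw [← mul_inv_rev, ih, inv_one]
  obtain ⟨k, hk⟩ := IsPGroup.iff_card.mp
    (fun x : S => ⟨1, by apply Subtype.ext; rw [pow_one, pow_two]; exact hS2 _ x.2⟩ : IsPGroup 2 S)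
  suffices h5 : 4 < Nat.card S by
    refine (Nat.dvd_trans ?_ (Subgroup.card_subgroup_dvd_card S))
    rw [hk] at h5 ⊢
    rcases k with _ | _ | _ | k
    iterate 3 norm_num at h5
    exact Dvd.intro (2 ^ k) (by ring)
  have hne : ∀ (g k : J1) (x y : ℕ), code (g : GL (Fin 7) (ZMod 11)) = x →
      code (k : GL (Fin 7) (ZMod 11)) = y → x ≠ y → g ≠ k := by
    rintro g _ x y hg hk hxy rfl
    exact hxy (hg.symm.trans hk)
  have hc1 : code ((1 : J1) : GL (Fin 7) (ZMod 11)) = idCode := code_one
  have hab : code ((a * b : J1) : GL (Fin 7) (ZMod 11)) = mul (inv 0) (inv 1) := by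
    rw [Subgroup.coe_mul, code_mul, ha, hb]
  simp only [List.contains_eq_mem, decide_eq_false_iff_not, List.mem_cons, List.not_mem_nil,
    or_false, not_or] at h2
  have ha1 : a ≠ 1 := hne _ _ _ _ ha hc1 (Nat.ne_of_beq_eq_false h0)
  have hb1 : b ≠ 1 := hne _ _ _ _ hb hc1 (Nat.ne_of_beq_eq_false h1)
  have hba : b ≠ a := hne _ _ _ _ hb ha (Nat.ne_of_beq_eq_false h10)
  classical
  have hsub : ({1, a, b, a * b, c} : Finset J1) ⊆ (Set.toFinite (S : Set J1)).toFinset := by
    intro x hx
    rw [Set.Finite.mem_toFinset]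
    simp only [Finset.mem_insert, Finset.mem_singleton] at hx
    have hm : ∀ y ∈ ({a, b, c} : Set J1), y ∈ S := fun y hy => Subgroup.subset_closure hy
    rcases hx with rfl | rfl | rfl | rfl | rfl
    exacts [S.one_mem, hm _ (by simp), hm _ (by simp), S.mul_mem (hm _ (by simp)) (hm _ (by simp)),
      hm _ (by simp)]
  have hcard := Finset.card_le_card hsub
  rw [← Set.ncard_eq_toFinset_card, ← Nat.card_coe_set_eq] at hcard
  have haab : a * b ≠ a := fun e => hb1 (mul_eq_left.mp e)
  have habb : a * b ≠ b := fun e => ha1 (mul_eq_right.mp e)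
  have hab1 : a * b ≠ 1 := fun e => hba (by
    rw [← one_mul b, ← hsq 0 a (by norm_num) ha, mul_assoc, e, mul_one])
  have h5 : ({1, a, b, a * b, c} : Finset J1).card = 5 := by
    rw [Finset.card_insert_of_notMem, Finset.card_insert_of_notMem, Finset.card_insert_of_notMem,
      Finset.card_insert_of_notMem, Finset.card_singleton]
    all_goals simp only [Finset.mem_insert, Finset.mem_singleton, not_or]
    · exact (hne _ _ _ _ hc hab h2.2.2.2).symm
    · exact ⟨habb.symm, (hne _ _ _ _ hc hb h2.2.2.1).symm⟩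
    · exact ⟨hba.symm, haab.symm, (hne _ _ _ _ hc ha h2.2.1).symm⟩
    · exact ⟨ha1.symm, hb1.symm, hab1.symm, (hne _ _ _ _ hc hc1 h2.1).symm⟩
  rw [h5] at hcard
  exact hcard

theorem dvd_card_of_witness {k i n : ℕ} (ht : (k, i, n) ∈ witnesses) : k ∣ Nat.card J1 := by
  obtain ⟨g, hg⟩ := exists_orderOf_witness ht
  exact hg ▸ orderOf_dvd_natCard g

theorem exists_witness_of_mem {k : ℕ} (hk : k ∈ exps) : ∃ g : J1, orderOf g = k := by
  have h : ∀ k ∈ exps, ∃ t ∈ witnesses, t.1 = k := by decide
  obtain ⟨⟨k, i, n⟩, ht, rfl⟩ := h k hk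
  exact exists_orderOf_witness ht

theorem card_J1 : Nat.card J1 = 175560 := by
  have hd : ∀ k ∈ exps, k ∣ Nat.card J1 := fun k hk => by
    obtain ⟨g, hg⟩ := exists_witness_of_mem hk
    exact hg ▸ orderOf_dvd_natCard g
  have h : 175560 ∣ Nat.card J1 := by
    have h8 := eight_dvd
    have e1 := Nat.Coprime.mul_dvd_of_dvd_of_dvd (by norm_num : Nat.Coprime 8 15) h8 (hd 15 (by decide))
    have e2 := Nat.Coprime.mul_dvd_of_dvd_of_dvd (by norm_num : Nat.Coprime (8 * 15) 7) e1 (hd 7 (by decide))
    have e3 := Nat.Coprime.mul_dvd_of_dvd_of_dvd (by norm_num : Nat.Coprime (8 * 15 * 7) 11) e2 (hd 11 (by decide))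
    exact Nat.Coprime.mul_dvd_of_dvd_of_dvd (by norm_num : Nat.Coprime (8 * 15 * 7 * 11) 19) e3 (hd 19 (by decide))
  exact le_antisymm card_le (Nat.le_of_dvd Nat.card_pos h)

/-- Every double coset of `H` contains a recorded representative. -/
theorem exists_rep : ∀ i < 266, ∀ v ∈ J1, code v = u i →
    ∃ r ∈ reps, ∃ w ∈ J1, code w = u r ∧ ∃ k ∈ H, ∃ k' ∈ H, v = k * w * k' := by
  suffices ∀ R i, rank i = R → i < 266 → ∀ v ∈ J1, code v = u i →
      ∃ r ∈ reps, ∃ w ∈ J1, code w = u r ∧ ∃ k ∈ H, ∃ k' ∈ H, v = k * w * k' from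
    fun i => this _ i rfl
  intro R
  induction R using Nat.strong_induction_on with
  | _ R ih =>
    intro i hR hi v hv hvc
    have e := allFrom_spec (d := 0) orbit_ok i (by rw [lengths.2.1]; exact hi)
    rw [zero_add] at e
    have hlen : i < orbit.length := by
      have : orbit.length = 266 := by decide +kernel
      omega
    rw [List.getD_eq_getElem _ _ hlen] at e
    rw [rank, List.getD_eq_getElem _ _ hlen] at hR
    rcases horb : orbit[i] with ⟨k, p, n, r⟩
    rw [horb] at e hR
    subst hR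
    by_cases hk : k = 2
    · simp only [hk, if_pos, List.contains_eq_mem, decide_eq_true_eq] at e
      exact ⟨i, e, v, hv, hvc, 1, H.one_mem, 1, H.one_mem, by simp⟩
    · simp only [if_neg hk, Bool.and_eq_true, decide_eq_true_eq] at e
      obtain ⟨⟨⟨⟨hk2, hp⟩, hn⟩, hrk⟩, heq⟩ := e
      obtain ⟨vp, hvp, hvpc⟩ := exists_u hp
      obtain ⟨r', hr', w, hw, hwc, a, ha, b, hb, rfl⟩ := ih _ hrk p rfl hp vp hvp hvpc
      obtain ⟨y, hy, hyc⟩ := exists_h hn
      let g := if k = 0 then genA else genB
      have hg : g ∈ H := by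
        show (if k = 0 then genA else genB) ∈ H
        split <;> exact Subgroup.subset_closure (by simp)
      have hgc : code g = if k = 0 then aCode else bCode := by
        show code (if k = 0 then genA else genB) = _
        split
        exacts [code_genA, code_genB]
      have hrel : g * (a * w * b) = v * y := code_injective <| by
        rw [code_mul g, code_mul v y, hgc, hvc, hvpc, hyc]
        have hux : u i = uList.getD i 0 := rfl
        rw [hux]
        exact Nat.eq_of_beq_eq_true heq
      refine ⟨r', hr', w, hw, hwc, g * a, H.mul_mem hg ha, b * y⁻¹, H.mul_mem hb (H.inv_mem hy), ?_⟩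
      rw [eq_mul_inv_of_mul_eq hrel.symm]
      group

theorem exists_exp (g : J1) : ∃ k ∈ exps, g ^ k = 1 := by
  obtain ⟨g, hg⟩ := g
  obtain ⟨i, hi, y, hy, v, hv, hvc, rfl⟩ := exists_decomp hg
  obtain ⟨r, hr, w, _, hwc, a, ha, b, hb, rfl⟩ := exists_rep i hi v hv hvc
  obtain ⟨n, hn, hnc⟩ := code_of_mem_H (H.mul_mem (H.mul_mem hb hy) ha)
  rw [← hints_reps, List.mem_map] at hr
  obtain ⟨p, hp, rfl⟩ := hr
  have hall := hint_ok
  rw [List.all_eq_true] at hall
  have e := allFrom_spec (d := 0) (hall p hp) n (by rw [lengths.1]; exact hn)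
  simp only [zero_add, Bool.and_eq_true, List.contains_eq_mem, decide_eq_true_eq] at e
  refine ⟨_, e.1, Subtype.ext ?_⟩
  have h1 : (w * (b * y * a)) ^ (p.2.getD n 0) = 1 := code_injective <| by
    rw [code_pow, code_mul, hwc, hnc, code_one]
    exact Nat.eq_of_beq_eq_true e.2
  show (a * w * b * y) ^ (p.2.getD n 0) = 1
  rw [show a * w * b * y = a * (w * (b * y * a)) * a⁻¹ by group, conj_pow, h1]
  simp

/-- The element orders of J₁. -/
theorem orderOf_dvd_exps (g : J1) : ∃ k ∈ exps, orderOf g ∣ k := by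
  obtain ⟨k, hk, h⟩ := exists_exp g
  exact ⟨k, hk, orderOf_dvd_of_pow_eq_one h⟩

theorem exists_orderOf {n : ℕ} (h : ∃ k ∈ exps, n ∣ k) : ∃ g : J1, orderOf g = n := by
  obtain ⟨k, hk, hn⟩ := h
  obtain ⟨g, hg⟩ := exists_witness_of_mem hk
  refine ⟨g ^ (orderOf g / n), ?_⟩
  exact orderOf_pow_orderOf_div (orderOf_pos g).ne' (hg ▸ hn)

end Cfsg.Agent.J1
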