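import Cfsg.Agent.Lib.J1.PackedMat
import Cfsg.Agent.Lib.J1.Data

/-! The checks of the certificate for the Janko group J₁. -/

namespace Cfsg.Agent.J1Cert

open Cfsg.Agent.J1Mat

/-- `f` holds at every position of the list, counting from `i`. -/
def allFrom {α : Type} (f : ℕ → α → Bool) : List α → ℕ → Bool
  | [], _ => true
  | a :: l, i => f i a && allFrom f l (i + 1)

theorem allFrom_spec {α : Type} {f : ℕ → α → Bool} (d : α) : ∀ {l : List α} {i : ℕ},
    allFrom f l i = true → ∀ n < l.length, f (i + n) (l.getD n d) = true := by
  intro l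
  induction l with
  | nil => intro i _ n hn; simp at hn
  | cons a l ih =>
    intro i h n hn
    rw [allFrom, Bool.and_eq_true] at h
    cases n with
    | zero => exact h.1
    | succ n =>
      have := ih h.2 n (by simpa using hn)
      rw [show i + (n + 1) = i + 1 + n by omega]
      simpa using this

/-- Powers of a packed matrix. -/
def powN (M : ℕ) : ℕ → ℕ
  | 0 => idCode
  | n + 1 => mul M (powN M n)

/-- The product of generators along a word. -/
def wordVal : List ℕ → ℕ
  | [] => idCode
  | k :: l => mul (if k = 0 then xCode else yCode) (wordVal l)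

/-- The code of the `n`-th element of `H`. -/
def h (n : ℕ) : ℕ := hList.getD n 0

/-- The code of the `i`-th coset representative. -/
def u (i : ℕ) : ℕ := uList.getD i 0

/-- Left multiplication by `g` maps the `n`-th element of `H` to the recorded one. -/
def hTabOk (g : ℕ) (T : List ℕ) : Bool :=
  allFrom (fun n x => decide (T.getD n 660 < 660) && Nat.beq (mul g x) (h (T.getD n 660))) hList 0

/-- Left multiplication by `g` maps the `i`-th coset to the recorded one. -/
def uTabOk (g : ℕ) (T : List (ℕ × ℕ)) : Bool :=
  allFrom (fun i x => decide ((T.getD i (266, 660)).1 < 266) && decide ((T.getD i (266, 660)).2 < 660) &&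
    Nat.beq (mul g x) (mul (u (T.getD i (266, 660)).1) (h (T.getD i (266, 660)).2))) uList 0

/-- Breadth-first parents. -/
def parOk (g₀ g₁ : ℕ) (L : List ℕ) (P : List (ℕ × ℕ)) : Bool :=
  allFrom (fun n x => if n = 0 then Nat.beq x idCode else
    decide ((P.getD n (2, n)).1 < 2) && decide ((P.getD n (2, n)).2 < n) &&
      Nat.beq x (mul (if (P.getD n (2, n)).1 = 0 then g₀ else g₁) (L.getD (P.getD n (2, n)).2 0))) L 0

/-- Rank of a coset in its orbit under `H`. -/
def rank (i : ℕ) : ℕ := (orbit.getD i (2, 0, 0, 0)).2.2.2

/-- Orbits of `H` on the cosets: every coset is reached from a representative. -/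
def orbitOk : Bool :=
  allFrom (fun i x => match orbit.getD i (3, 0, 0, 0) with
    | (k, p, n, r) => if k = 2 then reps.contains i else
        decide (k < 2) && decide (p < 266) && decide (n < 660) && decide (rank p < r) &&
          Nat.beq (mul (if k = 0 then aCode else bCode) (u p)) (mul x (h n))) uList 0

/-- Exponents of the maximal cyclic subgroups. -/
def exps : List ℕ := [7, 11, 19, 6, 10, 15]

/-- Every element of `u r * H` has one of the exponents. -/
def hintOk (p : ℕ × List ℕ) : Bool :=
  allFrom (fun n x => exps.contains (p.2.getD n 0) &&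
    Nat.beq (powN (mul (u p.1) x) (p.2.getD n 0)) idCode) hList 0

/-- The recorded elements have exactly the recorded orders. -/
def witnessOk : Bool :=
  witnesses.all fun t => decide (t.2.1 < 266) && decide (t.2.2 < 660) &&
    Nat.beq (powN (mul (u t.2.1) (h t.2.2)) t.1) idCode &&
    (List.range t.1).all fun k => k == 0 || !(Nat.beq (powN (mul (u t.2.1) (h t.2.2)) k) idCode)

/-- The code of a recorded involution. -/
def inv (n : ℕ) : ℕ :=
  mul (u (invols.getD n (0, 0)).1) (h (invols.getD n (0, 0)).2)

/-- Three commuting involutions generating a group of order 8. -/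
def eightOk : Bool :=
  (List.range 3).all (fun i => decide ((invols.getD i (266, 660)).1 < 266) &&
    decide ((invols.getD i (266, 660)).2 < 660) && Nat.beq (mul (inv i) (inv i)) idCode &&
      (List.range 3).all fun j => Nat.beq (mul (inv i) (inv j)) (mul (inv j) (inv i))) &&
  !(Nat.beq (inv 0) idCode) && !(Nat.beq (inv 1) idCode) && !(Nat.beq (inv 1) (inv 0)) &&
  !(([idCode, inv 0, inv 1, mul (inv 0) (inv 1)] : List ℕ).contains (inv 2))

end Cfsg.Agent.J1Cert
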