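import Cfsg.Agent.Lib.J1.CertDefs

/-! Kernel checks of the tables of the subgroup of order 660. -/

namespace Cfsg.Agent.J1Cert

open Cfsg.Agent.J1Mat

theorem hA_ok : hTabOk aCode hA = true := by decide +kernel
theorem hB_ok : hTabOk bCode hB = true := by decide +kernel

end Cfsg.Agent.J1Cert
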