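import Cfsg.Agent.Lib.J1.CertHint1

/-! Kernel check of the exponents over coset 2. -/

namespace Cfsg.Agent.J1Cert

open Cfsg.Agent.J1Mat

theorem hint_ok2 : hintOk (2, hint2_) = true := by decide +kernel

end Cfsg.Agent.J1Cert
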