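import Mathlib.Data.Matrix.Mul
import Mathlib.Data.Nat.Bitwise
import Mathlib.Data.ZMod.Basic
import Mathlib.Algebra.Order.BigOperators.Group.Finset
import Mathlib.Tactic.Ring
import Mathlib.Tactic.Linarith

/-!
Products of `7 × 7` matrices over the integers modulo 11, each coded as one natural number with
32 bits per entry, cheap enough for `decide +kernel`.
-/

namespace Cfsg.Agent.J1Mat

open Finset

/-- Evaluate `k` after bringing `x` to a numeral (for the kernel only). -/
def forceN {β : Sort*} (x : ℕ) (k : ℕ → β) : β :=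
  match x with
  | 0 => k 0
  | n + 1 => k (n + 1)

theorem forceN_eq {β : Sort*} (x : ℕ) (k : ℕ → β) : forceN x k = k x := by
  cases x <;> rfl

/-- Slot `i` of a packed number. -/
def slot (x i : ℕ) : ℕ := x / 2 ^ (32 * i) % 2 ^ 32

/-- The packed number with the given slots. -/
def ev (f : ℕ → ℕ) (n : ℕ) : ℕ := ∑ i ∈ range n, f i * 2 ^ (32 * i)

theorem ev_succ (f : ℕ → ℕ) (n : ℕ) : ev f (n + 1) = ev f n + f n * 2 ^ (32 * n) :=
  sum_range_succ _ _

theorem ev_lt {f : ℕ → ℕ} : ∀ {n : ℕ}, (∀ i < n, f i < 2 ^ 32) → ev f n < 2 ^ (32 * n) := by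
  intro n
  induction n with
  | zero => intro _; simp [ev]
  | succ n ih =>
    intro hf
    rw [ev_succ, Nat.mul_succ, pow_add]
    have h1 : f n + 1 ≤ 2 ^ 32 := hf n n.lt_succ_self
    have h2 := ih fun i hi => hf i (hi.trans n.lt_succ_self)
    nlinarith [Nat.two_pow_pos (32 * n)]

theorem slot_ev {f : ℕ → ℕ} : ∀ {n : ℕ}, (∀ i < n, f i < 2 ^ 32) → ∀ i < n, slot (ev f n) i = f i := by
  intro n
  induction n with
  | zero => intro _ i hi; omega
  | succ n ih =>
    intro hf i hi
    have hf' : ∀ j < n, f j < 2 ^ 32 := fun j hj => hf j (hj.trans n.lt_succ_self)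
    rw [slot, ev_succ]
    rcases Nat.lt_succ_iff_lt_or_eq.mp hi with h | h
    · obtain ⟨k, hk⟩ : ∃ k, 2 ^ (32 * n) = 2 ^ (32 * i) * (2 ^ 32 * k) := by
        refine ⟨2 ^ (32 * (n - i - 1)), ?_⟩
        rw [← pow_add, ← pow_add]
        congr 1
        omega
      rw [hk, show f n * (2 ^ (32 * i) * (2 ^ 32 * k)) = 2 ^ (32 * i) * (2 ^ 32 * (f n * k)) by ring,
        Nat.add_mul_div_left _ _ (Nat.two_pow_pos _), Nat.add_mul_mod_self_left]
      exact ih hf' i h
    · subst h
      rw [Nat.add_mul_div_right _ _ (Nat.two_pow_pos _), Nat.div_eq_of_lt (ev_lt hf'), zero_add,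
        Nat.mod_eq_of_lt (hf _ (Nat.lt_succ_self _))]

theorem mod_eq_ev (x : ℕ) : ∀ n, x % 2 ^ (32 * n) = ev (slot x) n := by
  intro n
  induction n with
  | zero => simp [ev, Nat.mod_one]
  | succ n ih =>
    rw [ev_succ, ← ih, Nat.mul_succ, pow_add, Nat.mod_mul, slot]
    ring

theorem eq_ev {x n : ℕ} {f : ℕ → ℕ} (hx : x < 2 ^ (32 * n)) (h : ∀ i < n, slot x i = f i) :
    x = ev f n := by
  rw [← Nat.mod_eq_of_lt hx, mod_eq_ev]
  exact sum_congr rfl fun i hi => by rw [h i (mem_range.mp hi)]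

theorem slot_land (x y i : ℕ) : slot (x &&& y) i = slot x i &&& slot y i := by
  apply Nat.eq_of_testBit_eq
  intro j
  simp only [slot, Nat.testBit_mod_two_pow, Nat.testBit_and, Nat.testBit_div_two_pow]
  cases decide (j < 32) <;> simp

theorem slot_shiftRight (x k i : ℕ) : slot (x >>> (32 * k)) i = slot x (k + i) := by
  rw [slot, slot, Nat.shiftRight_eq_div_pow, Nat.div_div_eq_div_mul, ← pow_add, Nat.mul_add]

/-- Mask for the first entries of the rows. -/
def colMask : ℕ := 0xffffffff000000000000000000000000000000000000000000000000ffffffff000000000000000000000000000000000000000000000000ffffffff000000000000000000000000000000000000000000000000ffffffff000000000000000000000000000000000000000000000000ffffffff000000000000000000000000000000000000000000000000ffffffff000000000000000000000000000000000000000000000000ffffffff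

/-- Mask for the first row. -/
def rowMask : ℕ := 0xffffffffffffffffffffffffffffffffffffffffffffffffffffffff

/-- Mask for the low 18 bits of each slot. -/
def quotMask : ℕ := 0x3ffff0003ffff0003ffff0003ffff0003ffff0003ffff0003ffff0003ffff0003ffff0003ffff0003ffff0003ffff0003ffff0003ffff0003ffff0003ffff0003ffff0003ffff0003ffff0003ffff0003ffff0003ffff0003ffff0003ffff0003ffff0003ffff0003ffff0003ffff0003ffff0003ffff0003ffff0003ffff0003ffff0003ffff0003ffff0003ffff0003ffff0003ffff0003ffff0003ffff0003ffff0003ffff0003ffff0003ffff0003ffff0003ffff0003ffff0003ffff0003ffff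

theorem colMask_slot : ∀ i < 43, slot colMask i = if i % 7 = 0 then 2 ^ 32 - 1 else 0 := by
  decide +kernel

theorem quotMask_slot : ∀ i < 49, slot quotMask i = 2 ^ 18 - 1 := by
  decide +kernel

theorem colMask_lt : colMask < 2 ^ (32 * 43) := by decide +kernel

theorem quotMask_lt : quotMask < 2 ^ (32 * 49) := by decide +kernel

theorem rowMask_eq : rowMask = 2 ^ (32 * 7) - 1 := by decide +kernel

theorem slot_lt (x i : ℕ) : slot x i < 2 ^ 32 := Nat.mod_lt _ (Nat.two_pow_pos _)

theorem col_eq (x k : ℕ) : (x >>> (32 * k)) &&& colMask =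
    ev (fun i => if i % 7 = 0 then slot x (k + i) else 0) 43 := by
  refine eq_ev (Nat.lt_of_le_of_lt Nat.and_le_right colMask_lt) fun i hi => ?_
  rw [slot_land, slot_shiftRight, colMask_slot i hi]
  split
  · rw [Nat.and_two_pow_sub_one_eq_mod, Nat.mod_eq_of_lt (slot_lt _ _)]
  · rw [Nat.and_zero]

theorem row_eq (x k : ℕ) : (x >>> (32 * (7 * k))) &&& rowMask = ev (fun j => slot x (7 * k + j)) 7 := by
  rw [rowMask_eq, Nat.and_two_pow_sub_one_eq_mod, mod_eq_ev]
  simp only [ev, slot_shiftRight]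

/-- One outer product: column `k` of `A` times row `k` of `B`. -/
def outer (A B k : ℕ) : ℕ := ((A >>> (32 * k)) &&& colMask) * ((B >>> (32 * (7 * k))) &&& rowMask)

/-- Reduce every slot (at most 700) modulo 11. -/
def red (C : ℕ) : ℕ := C - 11 * (((C * 1490) >>> 14) &&& quotMask)

/-- Product of two packed matrices. -/
def mul (A B : ℕ) : ℕ :=
  forceN A fun A => forceN B fun B =>
    forceN (outer A B 0 + outer A B 1 + outer A B 2 + outer A B 3 + outer A B 4 + outer A B 5 +
      outer A B 6) red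

theorem slot_quot {t : ℕ → ℕ} (ht : ∀ i < 49, t i < 2 ^ 32) (i : ℕ) (hi : i < 49) :
    slot ((ev t 49) >>> 14) i % 2 ^ 18 = t i / 2 ^ 14 := by
  conv_rhs => rw [← slot_ev ht i hi]
  simp only [slot, Nat.shiftRight_eq_div_pow]
  rw [Nat.div_div_eq_div_mul, mul_comm (2 ^ 14), ← Nat.div_div_eq_div_mul]
  set z := ev t 49 / 2 ^ (32 * i)
  rw [Nat.mod_mod_of_dvd _ (pow_dvd_pow 2 (by norm_num : 18 ≤ 32)),
    show (2 : ℕ) ^ 32 = 2 ^ 14 * 2 ^ 18 by norm_num, Nat.mod_mul_right_div_self]

theorem barrett : ∀ s < 701, s % 11 + 11 * (s * 1490 / 2 ^ 14) = s := by decide +kernel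

theorem red_ev {s : ℕ → ℕ} (hs : ∀ i < 49, s i < 701) : red (ev s 49) = ev (fun i => s i % 11) 49 := by
  have hQ : ((ev s 49 * 1490) >>> 14) &&& quotMask = ev (fun i => s i * 1490 / 2 ^ 14) 49 := by
    have he : ev s 49 * 1490 = ev (fun i => s i * 1490) 49 := by
      rw [ev, ev, sum_mul]
      exact sum_congr rfl fun i _ => by ring
    rw [he]
    refine eq_ev (Nat.lt_of_le_of_lt Nat.and_le_right quotMask_lt) fun i hi => ?_
    rw [slot_land, quotMask_slot i hi, Nat.and_two_pow_sub_one_eq_mod]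
    exact slot_quot (fun j hj => by have := hs j hj; omega) i hi
  rw [red, hQ]
  have h : ev (fun i => s i % 11) 49 + 11 * ev (fun i => s i * 1490 / 2 ^ 14) 49 = ev s 49 := by
    rw [ev, ev, ev, mul_sum, ← sum_add_distrib]
    exact sum_congr rfl fun i hi => by
      rw [← mul_assoc, ← add_mul, barrett _ (hs i (mem_range.mp hi))]
  omega

/-- The entries of the product before reduction. -/
def conv (x y n : ℕ) : ℕ := ∑ k ∈ range 7, slot x (k + 7 * (n / 7)) * slot y (7 * k + n % 7)

theorem sum_outer (x y : ℕ) :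
    outer x y 0 + outer x y 1 + outer x y 2 + outer x y 3 + outer x y 4 + outer x y 5 + outer x y 6 =
      ev (conv x y) 49 := by
  simp only [outer, col_eq, row_eq, ev, conv, pow_mul]
  generalize (2 : ℕ) ^ 32 = B
  simp only [sum_range_succ, sum_range_zero, Nat.reduceMod, Nat.reduceDiv, Nat.reduceEqDiff,
    Nat.reduceAdd, Nat.reduceMul, reduceIte, zero_mul, add_zero, zero_add]
  ring

/-- The code of a matrix. -/
def enc (M : Matrix (Fin 7) (Fin 7) (ZMod 11)) : ℕ :=
  ev (fun n => (M (Fin.ofNat 7 (n / 7)) (Fin.ofNat 7 (n % 7))).val) 49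

theorem slot_enc (M : Matrix (Fin 7) (Fin 7) (ZMod 11)) (i j : Fin 7) :
    slot (enc M) ((j : ℕ) + 7 * i) = (M i j).val := by
  rw [enc, slot_ev (fun n _ => (ZMod.val_lt _).trans (by norm_num)) _ (by omega)]
  congr 2 <;> ext <;> simp [Fin.ofNat] <;> omega

theorem enc_injective : Function.Injective enc := fun M N h => by
  ext i j
  exact ZMod.val_injective 11 (by rw [← slot_enc, ← slot_enc, h])

theorem mul_enc (M N : Matrix (Fin 7) (Fin 7) (ZMod 11)) : mul (enc M) (enc N) = enc (M * N) := by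
  simp only [mul, forceN_eq]
  have hc : ∀ n < 49, conv (enc M) (enc N) n =
      ∑ k : Fin 7, (M (Fin.ofNat 7 (n / 7)) k).val * (N k (Fin.ofNat 7 (n % 7))).val := by
    intro n hn
    rw [conv, ← Fin.sum_univ_eq_sum_range (fun k => slot (enc M) (k + 7 * (n / 7)) * slot (enc N) (7 * k + n % 7))]
    refine Finset.sum_congr rfl fun k _ => ?_
    congr 1
    · rw [← slot_enc M (Fin.ofNat 7 (n / 7)) k]
      congr 1
      simp [Fin.ofNat]
      omega
    · rw [← slot_enc N k (Fin.ofNat 7 (n % 7))]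
      congr 1
      simp [Fin.ofNat]
      omega
  rw [sum_outer, red_ev]
  · show ev _ 49 = ev (fun n => ((M * N) (Fin.ofNat 7 (n / 7)) (Fin.ofNat 7 (n % 7))).val) 49
    refine sum_congr rfl fun n hn => ?_
    dsimp only
    rw [hc n (mem_range.mp hn)]
    apply congrArg (fun z : ℕ => z * 2 ^ (32 * n))
    rw [← ZMod.val_natCast 11]
    congr 1
    rw [Matrix.mul_apply, Nat.cast_sum]
    refine Finset.sum_congr rfl fun k _ => ?_
    rw [Nat.cast_mul, ZMod.natCast_zmod_val, ZMod.natCast_zmod_val]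
  · intro n hn
    rw [hc n hn]
    refine Nat.lt_succ_of_le (le_trans (Finset.sum_le_card_nsmul univ _ 100 fun k _ => ?_) (by simp))
    exact Nat.mul_le_mul (Nat.le_of_lt_succ (ZMod.val_lt _)) (Nat.le_of_lt_succ (ZMod.val_lt _))

end Cfsg.Agent.J1Mat
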